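import Groth.Agent.Lib.CdpDim3.ResEmb
import Groth.Agent.Lib.CohFound.HHBridge
import Groth.Agent.Lib.GaCoh3.ASGlobal
import Groth.Agent.Lib.SheafVan16.Spectral

/-!
# Artin–Schreier maps in top degree on open subschemes of proper schemes
-/

universe u

set_option autoImplicit false
set_option linter.style.haveILetI false
set_option backward.isDefEq.respectTransparency.types false

open CategoryTheory CategoryTheory.Limits AlgebraicGeometry Opposite TopologicalSpace
open Groth.Agent.CohFound Groth.Agent.GaCoh3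

namespace Groth.Agent.CdpDim3

variable {X Y : Scheme.{u}} (j : Y ⟶ X) [IsOpenImmersion j]

/-- The structure sheaf of an open subscheme, as an abelian sheaf. -/
noncomputable def toAbResIso :
    (resEmb (isOpenEmbedding_base j)).obj (Coh.toAb (Coh.structureModule X)) ≅
      Coh.toAb (Coh.structureModule Y) :=
  (fullyFaithfulSheafToPresheaf _ _).preimageIso
    (NatIso.ofComponents
      (fun U => (forget₂ RingCat AddCommGrpCat).mapIso ((forget₂ CommRingCat RingCat).mapIso (j.appIso U.unop)))
      fun {U V} i => by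
        ext x
        exact (congr($(j.appIso_hom_naturality i) x) :))

theorem resEmb_asAb (p : ℕ) [Fact p.Prime] (h0 : (p : Γ(X, ⊤)) = 0) (h0' : (p : Γ(Y, ⊤)) = 0) :
    (resEmb (isOpenEmbedding_base j)).map (asAb p h0) ≫ (toAbResIso j).hom =
      (toAbResIso j).hom ≫ asAb p h0' := by
  refine Sheaf.hom_ext (NatTrans.ext (funext fun U => AddCommGrpCat.ext fun (x : Γ(X, j ''ᵁ U.unop)) => ?_))
  show (j.appIso U.unop).hom (x ^ p - x) =
    ((j.appIso U.unop).hom x : Γ(Y, U.unop)) ^ p - (j.appIso U.unop).hom x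
  rw [map_sub, map_pow]

/-- Artin–Schreier maps are onto in the top degree for open subschemes of proper schemes. -/
theorem asAb_surjective_top {k : Type u} [Field k] [IsSepClosed k] (p : ℕ) [Fact p.Prime] [CharP k p]
    (f : X ⟶ Spec (CommRingCat.of k)) [IsProper f] [QuasiCompact j] (n : ℕ) (hn : topologicalKrullDim X ≤ n)
    (h0' : (p : Γ(Y, ⊤)) = 0) :
    Function.Surjective (Sheaf.H.map (asAb p h0') n :
      Coh.HH Y (Coh.structureModule Y) n → Coh.HH Y (Coh.structureModule Y) n) := by
  have h0 : (p : Γ(X, ⊤)) = 0 := natCast_eq_zero_of_over p f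
  have hsurj := (asAb_surjective_and_finite p h0 f n).1
  haveI : CompactSpace X := QuasiCompact.compactSpace_of_compactSpace f
  haveI : QuasiSeparatedSpace X := quasiSeparatedSpace_of_quasiSeparated f
  haveI : SpectralSpace (sp X) :=
    have : SpectralSpace X := { }
    this
  let F : CohTop.Ab (sp X) := Coh.toAb (Coh.structureModule X)
  let hf := isOpenEmbedding_base j
  let U : Opens (sp X) := hf.isOpenMap.functor.obj ⊤
  have hU : IsCompact (U : Set X) := by
    show IsCompact (j '' (Set.univ : Set Y))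
    haveI : CompactSpace Y := QuasiCompact.compactSpace_of_compactSpace j
    exact isCompact_univ.image j.continuous
  have hr : Function.Surjective (rs F n (le_top : U ≤ ⊤)) :=
    SheafVan16.surjective_rs_of_ht hn n 0 rfl F (fun x hx => absurd trivial hx) U hU
  have h1 : Function.Surjective (mp (asAb p h0) n U : Hc F n U → Hc F n U) := fun y => by
    obtain ⟨z, rfl⟩ := hr y
    obtain ⟨w, hw⟩ := hsurj ((hExt F n).symm z)
    refine ⟨rs F n le_top (hExt F n w), ?_⟩
    rw [mp_rs, ← hExt_map, hw, AddEquiv.apply_symm_apply]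
  obtain ⟨e, he⟩ := exists_hc_resEmb_natural hf F n
  let G : CohTop.Ab (sp Y) := Coh.toAb (Coh.structureModule Y)
  let i : (resEmb hf).obj F ≅ G := toAbResIso j
  intro y
  obtain ⟨z, hz⟩ := h1 (e.symm (mp i.inv n ⊤ (hExt G n y)))
  refine ⟨(hExt G n).symm (mp i.hom n ⊤ (e z)), (hExt G n).injective ?_⟩
  rw [hExt_map, AddEquiv.apply_symm_apply, ← mp_comp,
    show i.hom ≫ asAb p h0' = (resEmb hf).map (asAb p h0) ≫ i.hom from (resEmb_asAb j p h0 h0').symm,
    mp_comp, ← he, hz, AddEquiv.apply_symm_apply, ← mp_comp, i.inv_hom_id, mp_id]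

end Groth.Agent.CdpDim3
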