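import Groth.Agent.S0385
import Groth.Agent.Lib.CdpDim3.ASOpen
import Groth.Agent.Lib.AlgSpDecent.DimMor
import Groth.Agent.Lib.FlatH4.GenPt
import Groth.Agent.Lib.ProjSpace.Basic
import Groth.Agent.Lib.VarDim.Irred
import Groth.Agent.Lib.VarDim.Scheme

/-!
# Schemes which are open in proper schemes of bounded dimension
-/

universe u

set_option autoImplicit false
set_option linter.style.haveILetI false
set_option backward.isDefEq.respectTransparency.types false

open CategoryTheory CategoryTheory.Limits AlgebraicGeometry Opposite TopologicalSpace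

namespace Groth.Agent.CdpDim3

/-- An open subscheme of a proper `k`-scheme of dimension at most `n`. -/
def Cpt (k : Type u) [Field k] (n : ℕ) (X : Scheme.{u}) : Prop :=
  ∃ (P : Scheme.{u}) (f : P ⟶ Spec (CommRingCat.of k)) (j : X ⟶ P),
    IsProper f ∧ IsOpenImmersion j ∧ QuasiCompact j ∧ topologicalKrullDim P ≤ n

variable {k : Type u} [Field k] {n : ℕ} {X : Scheme.{u}}

theorem Cpt.isNoetherian (h : Cpt k n X) : IsNoetherian X := by
  obtain ⟨P, f, j, _, _, _, -⟩ := h
  haveI : CompactSpace P := QuasiCompact.compactSpace_of_compactSpace f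
  haveI : CompactSpace X := QuasiCompact.compactSpace_of_compactSpace j
  haveI : IsLocallyNoetherian X := LocallyOfFiniteType.isLocallyNoetherian (j ≫ f)
  exact {}

theorem Cpt.dim_le (h : Cpt k n X) : topologicalKrullDim X ≤ n := by
  obtain ⟨P, f, j, _, _, _, hd⟩ := h
  exact le_trans (j.isOpenEmbedding.isInducing.topologicalKrullDim_le) hd

theorem Cpt.natCast_eq_zero (h : Cpt k n X) (p : ℕ) [CharP k p] : (p : Γ(X, ⊤)) = 0 := by
  obtain ⟨P, f, j, -⟩ := h
  exact (map_natCast (Coh.toGlobal (j ≫ f)) p).symm.trans ((congrArg _ (CharP.cast_eq_zero k p)).trans (map_zero _))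

/-- Finite schemes over an open subscheme of a proper scheme are again such. -/
theorem Cpt.of_finite {X' : Scheme.{u}} (π : X' ⟶ X) [IsFinite π] (h : Cpt k n X) : Cpt k n X' := by
  obtain ⟨P, f, j, _, _, _, hd⟩ := h
  haveI : CompactSpace P := QuasiCompact.compactSpace_of_compactSpace f
  haveI : QuasiSeparatedSpace P := quasiSeparatedSpace_of_quasiSeparated f
  obtain ⟨T, j', π', hj', hjc', hπ', -⟩ := Groth.Agent.S0385.result (π ≫ j)
  exact ⟨T, π' ≫ f, j', inferInstance, hj', hjc',
    (AlgSpDecent.topologicalKrullDim_le_of_lqf π').trans hd⟩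

/-- Finite morphisms over quasi-compact opens extend to finite morphisms. -/
theorem exists_finite_extension [IsNoetherian X] {U W : Scheme.{u}} (j : U ⟶ X) [IsOpenImmersion j]
    (c : W ⟶ U) [IsFinite c] :
    ∃ (X' : Scheme.{u}) (π : X' ⟶ X) (_ : IsFinite π) (j' : W ⟶ X') (_ : IsOpenImmersion j')
      (_ : QuasiCompact j'), IsPullback j' c π j := by
  haveI : IsLocallyNoetherian U := LocallyOfFiniteType.isLocallyNoetherian j
  haveI : QuasiCompact j := inferInstance
  obtain ⟨T, j₀, π₀, hj₀, hjc₀, hπ₀, hw₀⟩ := Groth.Agent.S0385.result (c ≫ j)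
  haveI := hj₀
  haveI := hjc₀
  haveI := hπ₀
  let X' := j₀.image
  let j' := j₀.toImage
  let π : X' ⟶ X := j₀.imageι ≫ π₀
  have hw : j' ≫ π = c ≫ j := by
    show j₀.toImage ≫ j₀.imageι ≫ π₀ = c ≫ j
    rw [← Category.assoc, Scheme.Hom.toImage_imageι, hw₀]
  haveI : QuasiCompact j' := by
    haveI : QuasiCompact (j' ≫ π) := by rw [hw]; infer_instance
    exact QuasiCompact.of_comp j' π
  let U' : X'.Opens := π ⁻¹ᵁ j.opensRange
  have hsub : Set.range j' ⊆ U' := by
    rintro _ ⟨w, rfl⟩
    exact ⟨c w, by rw [← Scheme.Hom.comp_apply, ← Scheme.Hom.comp_apply, hw]⟩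
  have heq : Set.range j' = U' := by
    let l : W ⟶ U'.toScheme := IsOpenImmersion.lift U'.ι j' (by rwa [Scheme.Opens.range_ι])
    have hl : l ≫ U'.ι = j' := IsOpenImmersion.lift_fac _ _ _
    let m : U'.toScheme ⟶ U := IsOpenImmersion.lift j (U'.ι ≫ π) (by
      rintro _ ⟨y, rfl⟩
      exact y.2)
    have hlm : l ≫ m = c := by
      rw [← cancel_mono j, Category.assoc, IsOpenImmersion.lift_fac, reassoc_of% hl, hw]
    haveI : IsSeparated m := by
      haveI : IsSeparated (m ≫ j) := by rw [IsOpenImmersion.lift_fac]; infer_instance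
      exact IsSeparated.of_comp m j
    haveI : IsFinite l := by
      haveI : IsFinite (l ≫ m) := by rw [hlm]; infer_instance
      exact MorphismProperty.of_postcomp (W := @IsFinite) (W' := @IsSeparated) l m inferInstance ‹_›
    have hcl : IsClosed (Set.range l) := l.isClosedMap.isClosed_range
    refine subset_antisymm hsub fun y hy => ?_
    obtain ⟨z, hz⟩ : (⟨y, hy⟩ : U') ∈ Set.range l := by
      rw [← hcl.closure_eq]
      refine closure_subtype.2 ?_
      have he : (Subtype.val '' (Set.range (l : W → U'.toScheme) : Set U') : Set X') = Set.range j' :=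
        (Set.range_comp _ _).symm.trans (congrArg Set.range (funext fun w => congr(($hl) w)))
      exact Eq.subst (motive := fun S => y ∈ closure S) he.symm
        (by rw [j₀.toImage.denseRange.closure_range]; exact Set.mem_univ y)
    exact ⟨z, (congr(($hl) z)).symm.trans (congrArg Subtype.val hz)⟩
  exact ⟨X', π, inferInstance, j', inferInstance, inferInstance,
    (IsOpenImmersion.isPullback c j' j π hw (TopologicalSpace.Opens.ext heq.symm)).flip⟩

/-- Quasi-projective schemes are open in proper schemes of the same dimension. -/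
theorem cpt_of_immersion (f : X ⟶ Spec (CommRingCat.of k)) [LocallyOfFiniteType f] {P : Scheme.{u}}
    (g : P ⟶ Spec (CommRingCat.of k)) [IsProper g] (i : X ⟶ P) [IsImmersion i] (hi : i ≫ g = f)
    (hn : topologicalKrullDim X ≤ n) : Cpt k n X := by
  haveI : CompactSpace P := QuasiCompact.compactSpace_of_compactSpace g
  haveI : IsLocallyNoetherian P := LocallyOfFiniteType.isLocallyNoetherian g
  haveI : IsNoetherian P := {}
  haveI : TopologicalSpace.NoetherianSpace X := i.isEmbedding.isInducing.noetherianSpace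
  haveI : QuasiCompact i := inferInstance
  let q := i.imageι ≫ g
  let j := i.toImage
  have hjq : j ≫ q = f := by
    show i.toImage ≫ i.imageι ≫ g = f
    rw [← Category.assoc, Scheme.Hom.toImage_imageι, hi]
  haveI : IsLocallyNoetherian i.image := LocallyOfFiniteType.isLocallyNoetherian q
  refine ⟨i.image, q, j, inferInstance, inferInstance, inferInstance, ?_⟩
  rw [VarDim.dim_eq_iSup_sdim q]
  refine iSup_le fun y => ?_
  obtain ⟨η, hη, hmax⟩ := VarDim.exists_maximal_specializes q y
  obtain ⟨x, rfl⟩ := FlatH4.IsMaxPt.mem_of_dense (η := η) hmax j.opensRange.2 i.toImage.denseRange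
  have hx : ((VarDim.sdim q (j x) : ℕ) : WithBot ℕ∞) ≤ n := by
    refine le_trans ?_ hn
    rw [VarDim.dim_eq_iSup_sdim (j ≫ q), ← VarDim.sdim_comp_of_surjective q j x]
    exact le_iSup (fun z : X => ((VarDim.sdim (j ≫ q) z : ℕ) : WithBot ℕ∞)) x
  refine le_trans ?_ hx
  by_cases h : j x = y
  · rw [h]
  · exact_mod_cast (VarDim.sdim_lt_of_specializes q hη h).le

end Groth.Agent.CdpDim3
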