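import Groth.Agent.Lib.CdP3.Basic
import Groth.Agent.Lib.CdpDim3.Cpt
import Groth.Agent.S0469

/-!
# Vanishing above the dimension for the constant sheaf
-/

universe u

set_option autoImplicit false
set_option linter.style.haveILetI false
set_option backward.isDefEq.respectTransparency.types false

open CategoryTheory CategoryTheory.Limits AlgebraicGeometry Opposite Abelian
open Groth.Agent.GaCoh3

namespace Groth.Agent.CdpDim3

/-- `H^q(X, ℤ/p) = 0` for `q` above the dimension, for opens in proper schemes. -/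
theorem van_const_cpt {k : Type u} [Field k] [IsSepClosed k] {p : ℕ} [Fact p.Prime] [CharP k p]
    {d : ℕ} {X : Scheme.{u}} (hX : Cpt k (d + 1) X) : CdP3.Van d (EtCoh.const X (ZMod p)) := by
  haveI := hX.isNoetherian
  have h0 := hX.natCast_eq_zero p
  have hd := hX.dim_le
  obtain ⟨P, f, j, _, _, _, hP⟩ := hX
  intro q hq
  obtain ⟨m, rfl⟩ : ∃ m, q = m + 1 := ⟨q - 1, by omega⟩
  refine subsingleton_of_forall_eq 0 fun y => ?_
  obtain ⟨z, rfl⟩ := Ext.covariant_sequence_exact₁ _ (asSeq_shortExact p h0) y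
    ((subsingleton_H_Ga_above_dim X (d + 1) hd (m + 1) (by omega)).elim _ _) (n₀ := m) rfl
  rcases Nat.lt_or_ge (d + 1) m with hm | hm
  · rw [(subsingleton_H_Ga_above_dim X (d + 1) hd m hm).elim z 0]
    exact Ext.zero_comp _ _ _ _ _
  obtain rfl : m = d + 1 := by omega
  obtain ⟨e, he⟩ := exists_H_Ga_equiv X (d + 1)
  obtain ⟨w, hw⟩ := asAb_surjective_top j p f (d + 1) hP h0 (e z)
  have hz : z = Sheaf.H.map (W4c5etcohweilstudent.artinSchreierEndo X p Fact.out h0) (d + 1) (e.symm w) :=
    e.injective (by rw [he _ _ (resZar_artinSchreier p h0), e.apply_symm_apply, hw])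
  rw [hz]
  show ((e.symm w).comp (Ext.mk₀ (asSeq p h0).g) (add_zero (d + 1))).comp (asSeq_shortExact p h0).extClass rfl = 0
  rw [Ext.comp_assoc_of_second_deg_zero, (asSeq_shortExact p h0).comp_extClass, Ext.comp_zero]

end Groth.Agent.CdpDim3
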