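import Groth.Agent.Lib.CdP3.Main
import Groth.Agent.Lib.CdpDim3.Const
import Groth.Agent.S19222
import Groth.Agent.Lib.EtDesc24.SepClosed

/-!
# `cd_p ≤ dim` for opens in proper schemes over separably closed fields of characteristic `p`
-/

universe u

set_option autoImplicit false
set_option linter.style.haveILetI false
set_option backward.isDefEq.respectTransparency.types false

open CategoryTheory CategoryTheory.Limits AlgebraicGeometry Opposite

namespace Groth.Agent.CdpDim3

variable {k : Type u} [Field k] [IsSepClosed k] {p : ℕ} [Fact p.Prime] [CharP k p]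

theorem cls_cpt (d : ℕ) : CdP3.Cls p d (Cpt k (d + 1)) where
  compact h := haveI := h.isNoetherian; inferInstance
  van_const h := van_const_cpt h
  of_integral {X P} h π hπ hft := by
    haveI := h.isNoetherian
    haveI := hπ
    haveI := hft inferInstance
    haveI : IsFinite π := (IsFinite.iff_isIntegralHom_and_locallyOfFiniteType π).2 ⟨hπ, inferInstance⟩
    exact h.of_finite π
  extend {X U W} h j hj hjc c hc := by
    haveI := h.isNoetherian
    haveI := hj
    haveI := hc
    obtain ⟨X', π, hπ, j', hj', hjc', hpb⟩ := exists_finite_extension j c
    haveI := hπ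
    exact ⟨X', π, inferInstance, j', hj', hjc', hpb, h.of_finite π⟩

/-- `cd_p(X) ≤ n` for opens in proper schemes of dimension at most `n`. -/
theorem cohDimLEAt_of_cpt {n : ℕ} {X : Scheme.{u}} (f : X ⟶ Spec (CommRingCat.of k))
    [LocallyOfFiniteType f] (hX : Cpt k n X) : Dix.CohDimLEAt X p n := by
  haveI := hX.isNoetherian
  intro F hF q hq
  cases n with
  | zero =>
    haveI : IsLocallyArtinian X := IsLocallyArtinian.of_topologicalKrullDim_le_zero (by simpa using hX.dim_le)
    haveI : QuasiCompact f := inferInstance
    haveI : Finite X := finite_of_compact_of_discrete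
    haveI : LocallyQuasiFinite f := LocallyQuasiFinite.of_finite_preimage_singleton f fun _ => Set.toFinite _
    haveI : IsFinite f := IsFinite.of_locallyQuasiFinite f
    haveI : HenselianLocalRing k := inferInstance
    haveI : IsSepClosed (IsLocalRing.ResidueField k) := EtDesc24.isSepClosed_residueField k
    exact Groth.Agent.S19222.result k X f F q hq
  | succ d => exact CdP3.van_primary (cls_cpt d) hX hF q hq

end Groth.Agent.CdpDim3
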