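import Groth.Agent.Lib.CdpDim3.ExtCompare
import Groth.Agent.Lib.CohFound.OpenEmb
import Groth.Agent.Lib.CohFound.Bridge

/-!
# Cohomology of restrictions to open subspaces, compatibly with endomorphisms
-/

universe u

set_option autoImplicit false
set_option linter.style.haveILetI false

open CategoryTheory CategoryTheory.Limits TopologicalSpace Opposite Abelian
open Groth.Agent.CohFound

namespace Groth.Agent.CdpDim3

variable {X Y : TopCat.{u}} {f : Y ⟶ X} (hf : Topology.IsOpenEmbedding f)

theorem exists_hc_resEmb_natural (F : CohTop.Ab X) (n : ℕ) :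
    ∃ e : Hc F n (hf.isOpenMap.functor.obj ⊤) ≃+ Hc ((resEmb hf).obj F) n ⊤,
      ∀ (φ : F ⟶ F) (x : Hc F n (hf.isOpenMap.functor.obj ⊤)),
        e (mp φ n _ x) = mp ((resEmb hf).map φ) n ⊤ (e x) := by
  let U : Opens X := hf.isOpenMap.functor.obj ⊤
  let R := resEmb hf
  let s₀ : (R.obj (freeU U)).obj.obj (op (⊤ : Opens Y)) := freeHomAddEquiv U (freeU U) (𝟙 _)
  let η : freeU (⊤ : Opens Y) ⟶ R.obj (freeU U) := (freeHomAddEquiv ⊤ (R.obj (freeU U))).symm s₀
  have hη : ∀ Z, Function.Bijective fun x : freeU U ⟶ Z => η ≫ R.map x := fun Z => by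
    have h : (fun x : freeU U ⟶ Z => η ≫ R.map x) =
        fun x => (freeHomAddEquiv ⊤ (R.obj Z)).symm (freeHomAddEquiv U Z x) := funext fun x => by
      apply (freeHomAddEquiv ⊤ (R.obj Z)).injective
      rw [freeHomAddEquiv_comp, AddEquiv.apply_symm_apply, AddEquiv.apply_symm_apply]
      show x.hom.app (op U) (freeHomAddEquiv U (freeU U) (𝟙 _)) = freeHomAddEquiv U Z x
      rw [← freeHomAddEquiv_comp, Category.id_comp]
    rw [h]
    exact (freeHomAddEquiv ⊤ (R.obj Z)).symm.bijective.comp (freeHomAddEquiv U Z).bijective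
  obtain ⟨e, he⟩ := hasCompare_of_acyclic R η (fun _ => True) hη
    (fun I hI m => by
      haveI := hI
      haveI := isFlasque_of_injective I
      haveI := isFlasque_resEmb hf I
      exact subsingleton_hc_of_isFlasque _ m ⊤)
    (fun T hT _ _ => ⟨shortExact_resEmb hf hT, trivial⟩) n F trivial
  exact ⟨e, he⟩

end Groth.Agent.CdpDim3
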